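import Mathlib

/-!
# Cokernels of maps into biproducts with an invertible component
-/

set_option autoImplicit false
set_option linter.all false

universe v u

open CategoryTheory CategoryTheory.Limits

namespace Groth.Agent.JumpP1

variable {C : Type u} [Category.{v} C] [Abelian C] {A B B₁ B₂ Q : C}

/-- With the second component invertible the cokernel is the first summand. -/
theorem nonempty_coker_biprod_snd {f : A ⟶ B₁ ⊞ B₂} [IsIso (f ≫ biprod.snd)] :
    Nonempty (cokernel f ≅ B₁) := by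
  refine ⟨{ hom := cokernel.desc f (biprod.fst - biprod.snd ≫ inv (f ≫ biprod.snd) ≫ f ≫ biprod.fst) ?_
            inv := biprod.inl ≫ cokernel.π f
            hom_inv_id := ?_
            inv_hom_id := ?_ }⟩
  · rw [Preadditive.comp_sub, ← Category.assoc f biprod.snd, IsIso.hom_inv_id_assoc, sub_self]
  · refine coequalizer.hom_ext ?_
    rw [Category.comp_id]
    refine (cokernel.π_desc_assoc f _ _ _).trans ?_
    rw [Preadditive.sub_comp, Category.assoc, Category.assoc, Category.assoc]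
    have h : f ≫ biprod.fst ≫ biprod.inl ≫ cokernel.π f =
        - ((f ≫ biprod.snd) ≫ biprod.inr ≫ cokernel.π f) := by
      have h0 : f ≫ (biprod.fst ≫ biprod.inl + biprod.snd ≫ biprod.inr) ≫ cokernel.π f = 0 := by
        rw [biprod.total, Category.id_comp, cokernel.condition]
      rw [Preadditive.add_comp, Preadditive.comp_add] at h0
      simp only [Category.assoc] at h0 ⊢
      exact eq_neg_of_add_eq_zero_left h0
    rw [h, Preadditive.comp_neg, IsIso.inv_hom_id_assoc, Preadditive.comp_neg, sub_neg_eq_add]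
    rw [← Category.assoc biprod.fst, ← Category.assoc biprod.snd, ← Preadditive.add_comp, biprod.total,
      Category.id_comp]
  · rw [Category.assoc, cokernel.π_desc, Preadditive.comp_sub, biprod.inl_fst, biprod.inl_snd_assoc, zero_comp,
      sub_zero]

/-- With the first component invertible the cokernel is the second summand. -/
theorem nonempty_coker_biprod_fst {f : A ⟶ B₁ ⊞ B₂} [IsIso (f ≫ biprod.fst)] :
    Nonempty (cokernel f ≅ B₂) := by
  haveI : IsIso ((f ≫ (biprod.braiding B₁ B₂).hom) ≫ biprod.snd) := by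
    have : (f ≫ (biprod.braiding B₁ B₂).hom) ≫ biprod.snd = f ≫ biprod.fst := by
      rw [Category.assoc, biprod.braiding_hom, biprod.lift_snd]
    rw [this]; infer_instance
  obtain ⟨e⟩ := nonempty_coker_biprod_snd (f := f ≫ (biprod.braiding B₁ B₂).hom)
  exact ⟨(cokernelCompIsIso f (biprod.braiding B₁ B₂).hom).symm ≪≫ e⟩

/-- A vanishing component splits off. -/
theorem nonempty_coker_biprod_zero {f : A ⟶ B₁ ⊞ B₂} (h : f ≫ biprod.snd = 0) :
    Nonempty (cokernel f ≅ cokernel (f ≫ biprod.fst) ⊞ B₂) := by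
  have hf : f = (f ≫ biprod.fst) ≫ biprod.inl := by
    refine biprod.hom_ext _ _ (by simp) (by simp [h])
  refine ⟨{ hom := cokernel.desc f (biprod.map (cokernel.π (f ≫ biprod.fst)) (𝟙 B₂)) ?_
            inv := biprod.desc (cokernel.desc (f ≫ biprod.fst) (biprod.inl ≫ cokernel.π f) ?_)
              (biprod.inr ≫ cokernel.π f)
            hom_inv_id := ?_
            inv_hom_id := ?_ }⟩
  · refine (congrArg (· ≫ _) hf).trans ?_
    rw [Category.assoc, biprod.inl_map, cokernel.condition_assoc, zero_comp]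
  · rw [← Category.assoc, ← hf, cokernel.condition]
  · refine coequalizer.hom_ext ?_
    rw [Category.comp_id]
    refine (cokernel.π_desc_assoc f _ _ _).trans ?_
    refine biprod.hom_ext' _ _ ?_ ?_
    · simp
    · simp
  · refine biprod.hom_ext' _ _ (coequalizer.hom_ext ?_) ?_
    · simp
    · simp

/-- The comparison with the middle term of a two-by-two square with invertible diagonal edges. -/
theorem isIso_map_desc {D : Type*} [Category D] [Abelian D] (G : C ⥤ D) [G.Additive]
    {A₁ A₂ P : C} (μ₁ : A ⟶ A₁) (μ₂ : A ⟶ A₂) (ν₁ : A₁ ⟶ Q) (ν₂ : A₂ ⟶ Q) (j₁ : A₁ ⟶ P) (j₂ : A₂ ⟶ P)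
    (hcomm : μ₁ ≫ ν₁ = μ₂ ≫ ν₂) (hrel : μ₁ ≫ j₁ = - (μ₂ ≫ j₂))
    (ψ : P ⟶ Q) (hψ₁ : j₁ ≫ ψ = ν₁) (hψ₂ : j₂ ≫ ψ = - ν₂)
    (hepi : ∀ {Z : D} (a b : G.obj P ⟶ Z), G.map j₁ ≫ a = G.map j₁ ≫ b → G.map j₂ ≫ a = G.map j₂ ≫ b → a = b)
    [IsIso (G.map μ₁)] [IsIso (G.map ν₂)] : IsIso (G.map ψ) := by
  refine ⟨- (inv (G.map ν₂) ≫ G.map j₂), hepi _ _ ?_ ?_, ?_⟩
  · rw [Category.comp_id, ← Functor.map_comp_assoc, hψ₁, ← cancel_epi (G.map μ₁), ← Functor.map_comp_assoc,
      hcomm, Functor.map_comp_assoc, Preadditive.comp_neg, IsIso.hom_inv_id_assoc, Preadditive.comp_neg,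
      ← Functor.map_comp, ← Functor.map_comp, hrel, Functor.map_neg]
  · rw [Category.comp_id, ← Functor.map_comp_assoc, hψ₂, Functor.map_neg, Preadditive.neg_comp,
      Preadditive.comp_neg, neg_neg, IsIso.hom_inv_id_assoc]
  · rw [Preadditive.neg_comp, Category.assoc, ← Functor.map_comp, hψ₂, Functor.map_neg, Preadditive.comp_neg,
      neg_neg, IsIso.inv_hom_id]

end Groth.Agent.JumpP1
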