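import Groth.Prelude.Def_FlatMod2
import Groth.Agent.KoszPn17.ProjSpace
import Groth.Agent.TF7.Completion.Stalk
import Groth.Agent.Coherent.ProjSpaceBC
import Groth.Agent.PicLib.FiniteSetTriv
import Groth.Agent.KPB28.Reg
import Groth.Agent.GrassLib.MapOfEpi
import Groth.Agent.DQCoh.RpushDegree17
import Groth.Agent.DQCoh.Bound
import Groth.Agent.JumpP1.Coker

/-!
# A family of bundles on `P^1` with jumping splitting type
-/

set_option autoImplicit false
set_option linter.all false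
set_option backward.isDefEq.respectTransparency.types false
set_option maxHeartbeats 1000000

universe u

open CategoryTheory CategoryTheory.Limits AlgebraicGeometry TopologicalSpace Opposite Polynomial
open Groth.Agent.SerreDual Groth.Agent.Coherent

noncomputable section

namespace Groth.Agent.JumpP1

/-! ### Modules -/

variable {X Y : Scheme.{u}}

instance preservesColimits_pullback (f : X ⟶ Y) : PreservesColimitsOfSize.{0, 0} (Scheme.Modules.pullback f) :=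
  (Scheme.Modules.pullbackPushforwardAdjunction f).leftAdjoint_preservesColimits

instance preservesBiprod_pullback (f : X ⟶ Y) : PreservesBinaryBiproducts (Scheme.Modules.pullback f) :=
  preservesBinaryBiproducts_of_preservesBinaryCoproducts _

/-- A morphism of modules is an isomorphism if it is so on an open cover. -/
theorem isIso_of_pullback_cover {M N : X.Modules} (φ : M ⟶ N) {ι : Type u} (U : ι → X.Opens)
    (hU : ∀ x : X, ∃ i, x ∈ U i) (h : ∀ i, IsIso ((Scheme.Modules.pullback (U i).ι).map φ)) : IsIso φ := by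
  have h' : ∀ i, IsIso ((Scheme.Modules.restrictFunctor (U i).ι).map φ) := fun i =>
    (NatIso.isIso_map_iff (Scheme.Modules.restrictFunctorIsoPullback (U i).ι) φ).2 (h i)
  haveI : Mono φ := Preadditive.mono_of_isZero_kernel φ (DQCoh.isZero_of_restrict_cover _ U hU fun i =>
    haveI := h' i
    (isZero_kernel_of_mono ((Scheme.Modules.restrictFunctor (U i).ι).map φ)).of_iso
      (PreservesKernel.iso (Scheme.Modules.restrictFunctor (U i).ι) φ))
  haveI : Epi φ := Preadditive.epi_of_isZero_cokernel φ (DQCoh.isZero_of_restrict_cover _ U hU fun i =>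
    haveI := h' i
    (isZero_cokernel_of_epi ((Scheme.Modules.restrictFunctor (U i).ι).map φ)).of_iso
      (PreservesCokernel.iso (Scheme.Modules.restrictFunctor (U i).ι) φ))
  exact isIso_of_mono_of_epi φ

theorem smulMod_comp (M : X.Modules) (r r' : Γ(X, ⊤)) :
    EulerLib.smulMod M r ≫ EulerLib.smulMod M r' = EulerLib.smulMod M (r' * r) := by
  refine Scheme.Modules.hom_ext _ _ fun V => ConcreteCategory.hom_ext _ _ fun s => ?_
  show (EulerLib.smulMod M r').val.app (op V) ((EulerLib.smulMod M r).val.app (op V) s) = _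
  rw [EulerLib.smulMod_app, EulerLib.smulMod_app]
  refine Eq.trans ?_ (EulerLib.smulMod_app M (r' * r) V s).symm
  rw [map_mul, mul_smul]

theorem smulMod_one' (M : X.Modules) : EulerLib.smulMod M 1 = 𝟙 M := by
  refine Scheme.Modules.hom_ext _ _ fun V => ConcreteCategory.hom_ext _ _ fun s => ?_
  refine (EulerLib.smulMod_app M 1 V s).trans ?_
  rw [map_one, one_smul]
  rfl

theorem smulMod_zero' (M : X.Modules) : EulerLib.smulMod M 0 = 0 := by
  refine Scheme.Modules.hom_ext _ _ fun V => ConcreteCategory.hom_ext _ _ fun s => ?_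
  refine (EulerLib.smulMod_app M 0 V s).trans ?_
  rw [map_zero, zero_smul]
  rfl

theorem isIso_smulMod (M : X.Modules) {r : Γ(X, ⊤)} (h : IsUnit r) : IsIso (EulerLib.smulMod M r) := by
  obtain ⟨u, rfl⟩ := h
  refine ⟨EulerLib.smulMod M ↑u⁻¹, ?_, ?_⟩ <;> rw [smulMod_comp] <;> simp [smulMod_one']

/-- The sum of two free modules of rank one. -/
theorem nonempty_free_biprod : Nonempty (FlatMod.freeMod X 1 ⊞ FlatMod.freeMod X 1 ≅ FlatMod.freeMod X 2) := by
  refine ⟨{ hom := biprod.desc (Sigma.desc fun _ => Sigma.ι (fun _ : Fin 2 => Coh.structureModule X) 0)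
              (Sigma.desc fun _ => Sigma.ι (fun _ : Fin 2 => Coh.structureModule X) 1)
            inv := Sigma.desc fun b => if b = 0 then Sigma.ι (fun _ : Fin 1 => Coh.structureModule X) 0 ≫ biprod.inl
              else Sigma.ι (fun _ : Fin 1 => Coh.structureModule X) 0 ≫ biprod.inr
            hom_inv_id := ?_, inv_hom_id := ?_ }⟩
  · refine biprod.hom_ext' _ _ (Sigma.hom_ext _ _ fun b => ?_) (Sigma.hom_ext _ _ fun b => ?_) <;>
      obtain rfl := Subsingleton.elim b 0 <;> simp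
  · refine Sigma.hom_ext _ _ fun b => ?_
    fin_cases b <;> simp

theorem rank_two_of_rank_one {A B : X.Modules} (hA : FlatMod.IsFinLocFreeOfRank 1 A)
    (hB : FlatMod.IsFinLocFreeOfRank 1 B) : FlatMod.IsFinLocFreeOfRank 2 (A ⊞ B) := by
  intro x
  obtain ⟨U, hxU, ⟨eA⟩⟩ := hA x
  obtain ⟨V, hxV, ⟨eB⟩⟩ := hB x
  let j : ↥(U ⊓ V) → X := fun y => y.1
  let i₁ : (↑(U ⊓ V) : Scheme.{u}) ⟶ ↑U := X.homOfLE inf_le_left
  let i₂ : (↑(U ⊓ V) : Scheme.{u}) ⟶ ↑V := X.homOfLE inf_le_right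
  obtain ⟨f₁⟩ := DCat.PerfTensor.nonempty_pullback_free i₁ 1
  obtain ⟨f₂⟩ := DCat.PerfTensor.nonempty_pullback_free i₂ 1
  obtain ⟨e⟩ := nonempty_free_biprod (X := (↑(U ⊓ V) : Scheme.{u}))
  let P := Scheme.Modules.pullback (U ⊓ V).ι
  let gA : P.obj A ≅ FlatMod.freeMod _ 1 :=
    (Scheme.Modules.pullbackCongr (X.homOfLE_ι inf_le_left).symm).app A ≪≫
      ((Scheme.Modules.pullbackComp i₁ U.ι).symm.app A) ≪≫
      (Scheme.Modules.pullback i₁).mapIso (((Scheme.Modules.restrictFunctorIsoPullback U.ι).app A).symm ≪≫ eA) ≪≫ f₁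
  let gB : P.obj B ≅ FlatMod.freeMod _ 1 :=
    (Scheme.Modules.pullbackCongr (X.homOfLE_ι inf_le_right).symm).app B ≪≫
      ((Scheme.Modules.pullbackComp i₂ V.ι).symm.app B) ≪≫
      (Scheme.Modules.pullback i₂).mapIso (((Scheme.Modules.restrictFunctorIsoPullback V.ι).app B).symm ≪≫ eB) ≪≫ f₂
  exact ⟨U ⊓ V, ⟨hxU, hxV⟩, ⟨(Scheme.Modules.restrictFunctorIsoPullback (U ⊓ V).ι).app _ ≪≫
    P.mapBiprod A B ≪≫ biprod.mapIso gA gB ≪≫ e⟩⟩

/-! ### Reassociation -/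

section Assoc

variable {C : Type*} [Category C] [Abelian C] {A B₁ B₂ B₃ : C}

theorem nonempty_coker_first (f : A ⟶ (B₁ ⊞ B₂) ⊞ B₃) [IsIso (f ≫ biprod.fst ≫ biprod.fst)] :
    Nonempty (cokernel f ≅ B₂ ⊞ B₃) := by
  let e : (B₁ ⊞ B₂) ⊞ B₃ ≅ B₁ ⊞ (B₂ ⊞ B₃) :=
    { hom := biprod.lift (biprod.fst ≫ biprod.fst) (biprod.lift (biprod.fst ≫ biprod.snd) biprod.snd)
      inv := biprod.lift (biprod.lift biprod.fst (biprod.snd ≫ biprod.fst)) (biprod.snd ≫ biprod.snd)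
      hom_inv_id := by ext <;> simp
      inv_hom_id := by ext <;> simp }
  haveI : IsIso ((f ≫ e.hom) ≫ biprod.fst) := by
    rw [Category.assoc, biprod.lift_fst]; infer_instance
  obtain ⟨g⟩ := nonempty_coker_biprod_fst (f := f ≫ e.hom)
  haveI : IsIso e.hom := e.isIso_hom
  exact ⟨(cokernelCompIsIso f e.hom).symm ≪≫ g⟩

theorem nonempty_coker_second (f : A ⟶ (B₁ ⊞ B₂) ⊞ B₃) [IsIso (f ≫ biprod.fst ≫ biprod.snd)] :
    Nonempty (cokernel f ≅ B₁ ⊞ B₃) := by
  let e : (B₁ ⊞ B₂) ⊞ B₃ ≅ B₂ ⊞ (B₁ ⊞ B₃) :=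
    { hom := biprod.lift (biprod.fst ≫ biprod.snd) (biprod.lift (biprod.fst ≫ biprod.fst) biprod.snd)
      inv := biprod.lift (biprod.lift (biprod.snd ≫ biprod.fst) biprod.fst) (biprod.snd ≫ biprod.snd)
      hom_inv_id := by ext <;> simp
      inv_hom_id := by ext <;> simp }
  haveI : IsIso ((f ≫ e.hom) ≫ biprod.fst) := by
    rw [Category.assoc, biprod.lift_fst]; infer_instance
  obtain ⟨g⟩ := nonempty_coker_biprod_fst (f := f ≫ e.hom)
  haveI : IsIso e.hom := e.isIso_hom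
  exact ⟨(cokernelCompIsIso f e.hom).symm ≪≫ g⟩

end Assoc

section Proj

variable {C D : Type*} [Category C] [Category D] [Abelian C] [Abelian D] (H : C ⥤ D)
  [H.PreservesZeroMorphisms] [PreservesBinaryBiproducts H] {A B₁ B₂ B₃ : C} (a : A ⟶ B₁) (b : A ⟶ B₂) (c : A ⟶ B₃)

theorem map_lift_fst (d : A ⟶ B₁ ⊞ B₂) :
    (H.map (biprod.lift d c) ≫ (H.mapBiprod _ _).hom) ≫ biprod.fst = H.map d := by
  rw [Category.assoc, Functor.mapBiprod_hom, biprod.lift_fst, ← H.map_comp, biprod.lift_fst]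

theorem map_lift_snd (d : A ⟶ B₁ ⊞ B₂) :
    (H.map (biprod.lift d c) ≫ (H.mapBiprod _ _).hom) ≫ biprod.snd = H.map c := by
  rw [Category.assoc, Functor.mapBiprod_hom, biprod.lift_snd, ← H.map_comp, biprod.lift_snd]

theorem map_lift₁ : (H.map (biprod.lift (biprod.lift a b) c) ≫
    (H.mapBiprod _ _ ≪≫ biprod.mapIso (H.mapBiprod _ _) (Iso.refl _)).hom) ≫ biprod.fst ≫ biprod.fst = H.map a := by
  simp only [Iso.trans_hom, biprod.mapIso_hom, Iso.refl_hom, Category.assoc, biprod.map_fst_assoc,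
    Functor.mapBiprod_hom]
  erw [biprod.lift_fst_assoc, biprod.lift_fst, ← H.map_comp_assoc, biprod.lift_fst, ← H.map_comp, biprod.lift_fst]

theorem map_lift₂ : (H.map (biprod.lift (biprod.lift a b) c) ≫
    (H.mapBiprod _ _ ≪≫ biprod.mapIso (H.mapBiprod _ _) (Iso.refl _)).hom) ≫ biprod.fst ≫ biprod.snd = H.map b := by
  simp only [Iso.trans_hom, biprod.mapIso_hom, Iso.refl_hom, Category.assoc, biprod.map_fst_assoc,
    Functor.mapBiprod_hom]
  erw [biprod.lift_fst_assoc, biprod.lift_snd, ← H.map_comp_assoc, biprod.lift_fst, ← H.map_comp, biprod.lift_snd]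

theorem lift_eq_map : biprod.lift (H.map a) (H.map b) = H.map (biprod.lift a b) ≫ (H.mapBiprod _ _).hom :=
  biprod.hom_ext _ _ (by rw [biprod.lift_fst, Category.assoc, Functor.mapBiprod_hom]; erw [biprod.lift_fst, ← H.map_comp, biprod.lift_fst])
    (by rw [biprod.lift_snd, Category.assoc, Functor.mapBiprod_hom]; erw [biprod.lift_snd, ← H.map_comp, biprod.lift_snd])

end Proj

/-! ### The projective line over `ℤ` -/

/-- `ℤ` in the universe `u`. -/
abbrev Z : Type u := ULift.{u} ℤ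

/-- The twisting sheaves on `P^1_ℤ`. -/
abbrev T (d : ℤ) : (CohB1.ProjSpace 1 (ULift.{u} ℤ)).Modules := Twist.twistProjSpace 1 (ULift.{u} ℤ) d

variable (i : ℕ)

/-- `x^{2i+1}`. -/
def fx : CohB1.polyGrading 1 (ULift.{u} ℤ) (2 * i + 1) :=
  ⟨MvPolynomial.X 0 ^ (2 * i + 1), by
    simpa using SetLike.pow_mem_graded (2 * i + 1) (ProjLib.X_mem_polyGrading 1 (ULift.{u} ℤ) 0)⟩

/-- `y`. -/
def fy : CohB1.polyGrading 1 (ULift.{u} ℤ) 1 := ⟨MvPolynomial.X 1, ProjLib.X_mem_polyGrading 1 (ULift.{u} ℤ) 1⟩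

/-- `x^{2i+1} : O(-i-1) → O(i)`. -/
def μ₁ : T.{u} (-((i : ℤ) + 1)) ⟶ T (i : ℤ) := mulHom (fx i) (by push_cast; ring)
/-- `y : O(-i-1) → O(-i)`. -/
def μ₂ : T.{u} (-((i : ℤ) + 1)) ⟶ T (-(i : ℤ)) := mulHom fy (by push_cast; ring)
/-- `y : O(i) → O(i+1)`. -/
def ν₁ : T.{u} (i : ℤ) ⟶ T ((i : ℤ) + 1) := mulHom fy (by push_cast; ring)
/-- `x^{2i+1} : O(-i) → O(i+1)`. -/
def ν₂ : T.{u} (-(i : ℤ)) ⟶ T ((i : ℤ) + 1) := mulHom (fx i) (by push_cast; ring)

theorem mu_nu : μ₁.{u} i ≫ ν₁ i = μ₂ i ≫ ν₂ i := KoszPn17.mulHom_comm _ _ _ _ _ _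

/-- `D(x)` and `D(y)`. -/
def DX (j : Fin 2) : (CohB1.ProjSpace 1 (ULift.{u} ℤ)).Opens :=
  Proj.basicOpen (CohB1.polyGrading 1 (ULift.{u} ℤ)) (MvPolynomial.X j)

theorem cover_DX (x : CohB1.ProjSpace 1 (ULift.{u} ℤ)) : ∃ j, x ∈ DX.{u} j :=
  Opens.mem_iSup.1 ((ProjLib.iSup_basicOpen_X 1 (ULift.{u} ℤ)).symm ▸ Opens.mem_top x :
    x ∈ ⨆ j, Proj.basicOpen (CohB1.polyGrading 1 (ULift.{u} ℤ)) (MvPolynomial.X j))

theorem isIso_pullback_mulHom {d e : ℤ} {m : ℕ} (a : CohB1.polyGrading 1 (ULift.{u} ℤ) m) (h : d + m = e)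
    (U : (CohB1.ProjSpace 1 (ULift.{u} ℤ)).Opens) (hU : U ≤ Proj.basicOpen (CohB1.polyGrading 1 (ULift.{u} ℤ)) a.1) :
    IsIso ((Scheme.Modules.pullback U.ι).map (mulHom a h)) :=
  (NatIso.isIso_map_iff (Scheme.Modules.restrictFunctorIsoPullback U.ι) (mulHom a h)).1
    (KoszPn17.isIso_restrict_of_bijective (mulHom a h) U fun V hV =>
      KoszPn17.bijective_mulHom_app a h V (hV.trans hU))

theorem DX_le_fx : DX.{u} 0 ≤ Proj.basicOpen (CohB1.polyGrading 1 (ULift.{u} ℤ)) (fx.{u} i).1 := by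
  show _ ≤ Proj.basicOpen _ (MvPolynomial.X 0 ^ (2 * i + 1))
  rw [Proj.basicOpen_pow _ _ _ (by omega)]
  rfl

/-- The cokernel of `(x^{2i+1}, y) : O(-i-1) → O(i) ⊕ O(-i)` is `O(i+1)`. -/
theorem nonempty_coker_g :
    Nonempty (cokernel (biprod.lift (μ₁.{u} i) (μ₂ i)) ≅ T ((i : ℤ) + 1)) := by
  let g := biprod.lift (μ₁.{u} i) (μ₂ i)
  have hw : g ≫ biprod.desc (ν₁ i) (- ν₂ i) = 0 := by
    rw [biprod.lift_desc, Preadditive.comp_neg, mu_nu, add_neg_cancel]
  let ψ := cokernel.desc g (biprod.desc (ν₁ i) (- ν₂ i)) hw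
  haveI : IsIso ψ := by
    refine isIso_of_pullback_cover ψ (fun j : ULift.{u} (Fin 2) => DX j.down)
      (fun x => ⟨⟨(cover_DX x).choose⟩, (cover_DX x).choose_spec⟩) fun ⟨j⟩ => ?_
    let G := Scheme.Modules.pullback (DX.{u} j).ι
    have hrel : μ₁ i ≫ biprod.inl ≫ cokernel.π g = - (μ₂ i ≫ biprod.inr ≫ cokernel.π g) := by
      refine eq_neg_of_add_eq_zero_left ?_
      rw [← Category.assoc, ← Category.assoc, ← Preadditive.add_comp, ← biprod.lift_eq, cokernel.condition]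
    have hepi : ∀ {Z : (↑(DX.{u} j) : Scheme.{u}).Modules} (a b : G.obj (cokernel g) ⟶ Z),
        G.map (biprod.inl ≫ cokernel.π g) ≫ a = G.map (biprod.inl ≫ cokernel.π g) ≫ b →
        G.map (biprod.inr ≫ cokernel.π g) ≫ a = G.map (biprod.inr ≫ cokernel.π g) ≫ b → a = b := by
      intro Z a b h1 h2
      haveI : PreservesColimitsOfSize.{0, 0} G :=
        (Scheme.Modules.pullbackPushforwardAdjunction (DX.{u} j).ι).leftAdjoint_preservesColimits
      haveI : Epi (G.map (cokernel.π g)) := inferInstance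
      rw [← cancel_epi (G.map (cokernel.π g)), ← Category.id_comp (G.map (cokernel.π g)),
        ← G.map_id, ← biprod.total]
      simp only [Functor.map_add, Functor.map_comp, Preadditive.add_comp, Category.assoc] at h1 h2 ⊢
      rw [h1, h2]
    have hψ₁ : (biprod.inl ≫ cokernel.π g) ≫ ψ = ν₁ i := by
      rw [Category.assoc, cokernel.π_desc, biprod.inl_desc]
    have hψ₂ : (biprod.inr ≫ cokernel.π g) ≫ ψ = - ν₂ i := by
      rw [Category.assoc, cokernel.π_desc, biprod.inr_desc]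
    fin_cases j
    · haveI : IsIso (G.map (μ₁ i)) := isIso_pullback_mulHom _ _ _ (DX_le_fx i)
      haveI : IsIso (G.map (ν₂ i)) := isIso_pullback_mulHom _ _ _ (DX_le_fx i)
      exact isIso_map_desc G (μ₁ i) (μ₂ i) (ν₁ i) (ν₂ i) _ _ (mu_nu i) hrel ψ hψ₁ hψ₂ hepi
    · haveI : IsIso (G.map (μ₂ i)) := isIso_pullback_mulHom _ _ _ le_rfl
      haveI : IsIso (G.map (ν₁ i)) := isIso_pullback_mulHom _ _ _ le_rfl
      haveI : IsIso (G.map (-ψ)) := isIso_map_desc G (μ₂ i) (μ₁ i) (ν₂ i) (ν₁ i) _ _ (mu_nu i).symm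
        (by rw [hrel, neg_neg]) (-ψ) (by rw [Preadditive.comp_neg, hψ₂, neg_neg]) (by rw [Preadditive.comp_neg, hψ₁])
        (fun a b h2 h1 => hepi a b h1 h2)
      refine ⟨- inv (G.map (-ψ)), ?_, ?_⟩
      · rw [Preadditive.comp_neg, ← Preadditive.neg_comp, ← G.map_neg, IsIso.hom_inv_id]
      · rw [Preadditive.neg_comp, ← Preadditive.comp_neg, ← G.map_neg, IsIso.inv_hom_id]
  exact ⟨asIso ψ⟩

/-! ### The family -/

variable (k : Type u) [Field k]

/-- The projection `P^1_S → P^1_ℤ`. -/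
abbrev pZ (S : Scheme.{u}) : CohB1.ProjSpaceOver 1 S ⟶ CohB1.ProjSpace 1 (ULift.{u} ℤ) := pullback.fst _ _

/-- The parameter. -/
def tS : Γ(CohB1.ProjSpaceOver 1 (Spec (CommRingCat.of k[X])), ⊤) :=
  (pullback.snd (CohB1.ProjSpace.toSpec 1 (ULift.{u} ℤ)) (specULiftZIsTerminal.from (Spec (CommRingCat.of k[X])))).appTop
    ((Scheme.ΓSpecIso (CommRingCat.of k[X])).inv Polynomial.X)

/-- The defining map. -/
def α :=
  let Φ := Scheme.Modules.pullback (pZ (Spec (CommRingCat.of k[X])))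
  biprod.lift (biprod.lift (Φ.map (μ₁.{u} i)) (Φ.map (μ₂ i))) (EulerLib.smulMod (Φ.obj (T (-((i : ℤ) + 1)))) (tS k))

theorem rank_family : FlatMod.IsFinLocFreeOfRank 2 (cokernel (α i k)) := by
  refine KPB28.isFinLocFreeOfRank_of_local _ fun x => ?_
  let q := pZ (Spec (CommRingCat.of k[X]))
  obtain ⟨j, hj⟩ := cover_DX (q x)
  let V := q ⁻¹ᵁ DX.{u} j
  refine ⟨(↑V : Scheme.{u}), V.ι, inferInstance, by rw [Scheme.Opens.opensRange_ι]; exact hj, ?_⟩
  let H := Scheme.Modules.pullback V.ι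
  let Φ := Scheme.Modules.pullback q
  haveI : PreservesColimitsOfSize.{0, 0} H :=
    (Scheme.Modules.pullbackPushforwardAdjunction V.ι).leftAdjoint_preservesColimits
  have hrank : ∀ d : ℤ, FlatMod.IsFinLocFreeOfRank 1 (H.obj (Φ.obj (T.{u} d))) := fun d =>
    GrassLib.isFinLocFreeOfRank_pullback _ (GrassLib.isFinLocFreeOfRank_pullback _
      (Groth.Agent.PicLib.isFinLocFreeOfRank_one (Coherent.isInvertible_twistProjSpaceZ 1 d (ULift.{u} ℤ))))
  have hiso : ∀ {M N : (CohB1.ProjSpace 1 (ULift.{u} ℤ)).Modules} (φ : M ⟶ N),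
      IsIso ((Scheme.Modules.pullback (DX.{u} j).ι).map φ) → IsIso (H.map (Φ.map φ)) := by
    intro M N φ hφ
    let σ : Φ ⋙ H ≅ Scheme.Modules.pullback (DX.{u} j).ι ⋙ Scheme.Modules.pullback (q ∣_ DX.{u} j) :=
      Scheme.Modules.pullbackComp V.ι q ≪≫ Scheme.Modules.pullbackCongr (morphismRestrict_ι q (DX.{u} j)).symm ≪≫
        (Scheme.Modules.pullbackComp (q ∣_ DX.{u} j) (DX.{u} j).ι).symm
    exact (NatIso.isIso_map_iff σ φ).2 (inferInstanceAs (IsIso ((Scheme.Modules.pullback (q ∣_ DX.{u} j)).map _)))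
  let E := H.mapBiprod (Φ.obj (T.{u} (i : ℤ)) ⊞ Φ.obj (T (-(i : ℤ)))) (Φ.obj (T (-((i : ℤ) + 1)))) ≪≫
    biprod.mapIso (H.mapBiprod _ _) (Iso.refl _)
  let f := H.map (α i k) ≫ E.hom
  haveI : IsIso E.hom := E.isIso_hom
  have ef : Nonempty ((Scheme.Modules.restrictFunctor V.ι).obj (cokernel (α i k)) ≅ cokernel f) :=
    ⟨(Scheme.Modules.restrictFunctorIsoPullback V.ι).app _ ≪≫ PreservesCokernel.iso H (α i k) ≪≫
      (cokernelCompIsIso (H.map (α i k)) E.hom).symm⟩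
  obtain ⟨ef⟩ := ef
  have hf1 : f ≫ biprod.fst ≫ biprod.fst = H.map (Φ.map (μ₁ i)) := map_lift₁ H _ _ _
  have hf2 : f ≫ biprod.fst ≫ biprod.snd = H.map (Φ.map (μ₂ i)) := map_lift₂ H _ _ _
  fin_cases j
  · haveI : IsIso (f ≫ biprod.fst ≫ biprod.fst) := by
      rw [hf1]; exact hiso _ (isIso_pullback_mulHom _ _ _ (DX_le_fx i))
    obtain ⟨e⟩ := nonempty_coker_first f
    exact DQCoh.RpushDegree17.isFinLocFreeOfRank_of_iso (ef ≪≫ e).symm (rank_two_of_rank_one (hrank _) (hrank _))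
  · haveI : IsIso (f ≫ biprod.fst ≫ biprod.snd) := by
      rw [hf2]; exact hiso _ (isIso_pullback_mulHom _ _ _ le_rfl)
    obtain ⟨e⟩ := nonempty_coker_second f
    exact DQCoh.RpushDegree17.isFinLocFreeOfRank_of_iso (ef ≪≫ e).symm (rank_two_of_rank_one (hrank _) (hrank _))

/-- The inclusion of the fibre over `t = a`. -/
def fib (a : k) :
    CohB1.ProjSpaceOver 1 (Spec (CommRingCat.of k)) ⟶ CohB1.ProjSpaceOver 1 (Spec (CommRingCat.of k[X])) :=
  pullback.lift (pullback.fst _ _)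
    (pullback.snd _ _ ≫ Spec.map (CommRingCat.ofHom (Polynomial.evalRingHom a)))
    (specULiftZIsTerminal.hom_ext _ _)

theorem fib_tS (a : k) : (fib k a).appTop (tS k) =
    (pullback.snd (CohB1.ProjSpace.toSpec 1 (ULift.{u} ℤ)) (specULiftZIsTerminal.from (Spec (CommRingCat.of k)))).appTop
      ((Scheme.ΓSpecIso (CommRingCat.of k)).inv a) := by
  have h : fib k a ≫ pullback.snd _ _ =
      pullback.snd _ _ ≫ Spec.map (CommRingCat.ofHom (Polynomial.evalRingHom a)) := pullback.lift_snd _ _ _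
  let u := (Scheme.ΓSpecIso (CommRingCat.of k[X])).inv Polynomial.X
  have h1 : ∀ (g : CohB1.ProjSpaceOver 1 (Spec (CommRingCat.of k)) ⟶ Spec (CommRingCat.of k[X]))
      (g' : CohB1.ProjSpaceOver 1 (Spec (CommRingCat.of k)) ⟶ Spec (CommRingCat.of k[X])),
      g = g' → g.appTop u = g'.appTop u := fun g g' e => by rw [e]
  refine (show (fib k a).appTop (tS k) = (fib k a ≫ pullback.snd _ _).appTop u from rfl).trans ((h1 _ _ h).trans ?_)
  show (pullback.snd (CohB1.ProjSpace.toSpec 1 (ULift.{u} ℤ)) _).appTop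
    ((Spec.map (CommRingCat.ofHom (Polynomial.evalRingHom a))).appTop u) = _
  congr 1
  refine (DFunLike.congr_fun (congrArg CommRingCat.Hom.hom (Scheme.ΓSpecIso_inv_naturality
    (CommRingCat.ofHom (Polynomial.evalRingHom a)))) Polynomial.X).symm.trans ?_
  show (Scheme.ΓSpecIso (CommRingCat.of k)).inv (Polynomial.eval a Polynomial.X) = _
  rw [Polynomial.eval_X]

theorem fibres (a : k) :
    (a = 0 → Nonempty ((Scheme.Modules.pullback (fib k a)).obj (cokernel (α i k)) ≅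
        Twist.twistOver 1 (Spec (CommRingCat.of k)) ((i : ℤ) + 1) ⊞
          Twist.twistOver 1 (Spec (CommRingCat.of k)) (-((i : ℤ) + 1)))) ∧
    (a ≠ 0 → Nonempty ((Scheme.Modules.pullback (fib k a)).obj (cokernel (α i k)) ≅
        Twist.twistOver 1 (Spec (CommRingCat.of k)) (i : ℤ) ⊞
          Twist.twistOver 1 (Spec (CommRingCat.of k)) (-(i : ℤ)))) := by
  let Φ := Scheme.Modules.pullback (pZ (Spec (CommRingCat.of k[X])))
  let Ψ := Scheme.Modules.pullback (fib k a)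
  haveI : PreservesColimitsOfSize.{0, 0} Ψ :=
    (Scheme.Modules.pullbackPushforwardAdjunction (fib k a)).leftAdjoint_preservesColimits
  let σ : Φ ⋙ Ψ ≅ Scheme.Modules.pullback (pZ (Spec (CommRingCat.of k))) :=
    Scheme.Modules.pullbackComp (fib k a) (pZ _) ≪≫ Scheme.Modules.pullbackCongr (pullback.lift_fst _ _ _)
  let l := biprod.lift (Φ.map (μ₁.{u} i)) (Φ.map (μ₂ i))
  let f := Ψ.map (α i k) ≫ (Ψ.mapBiprod _ _).hom
  have e0 : Nonempty (Ψ.obj (cokernel (α i k)) ≅ cokernel f) :=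
    ⟨PreservesCokernel.iso Ψ (α i k) ≪≫ (cokernelCompIsIso (Ψ.map (α i k)) (Ψ.mapBiprod _ _).hom).symm⟩
  obtain ⟨e0⟩ := e0
  have hf1 : f ≫ biprod.fst = Ψ.map l := map_lift_fst Ψ _ _
  have hf2 : f ≫ biprod.snd = EulerLib.smulMod _ ((fib k a).appTop (tS k)) :=
    (map_lift_snd Ψ _ _).trans (TF7.pullback_map_smulMod' _ _ _)
  refine ⟨fun ha => ?_, fun ha => ?_⟩
  · obtain ⟨e1⟩ := nonempty_coker_biprod_zero (f := f) (by
      have h0 : (fib k a).appTop (tS k) = (0 : Γ(CohB1.ProjSpaceOver 1 (Spec (CommRingCat.of k)), ⊤)) := by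
        rw [fib_tS, ha, map_zero, map_zero]; rfl
      rw [hf2, h0, smulMod_zero'])
    obtain ⟨eg⟩ := nonempty_coker_g.{u} i
    haveI : PreservesColimitsOfSize.{0, 0} Φ :=
      (Scheme.Modules.pullbackPushforwardAdjunction _).leftAdjoint_preservesColimits
    let e2 : cokernel (f ≫ biprod.fst) ≅ Ψ.obj (Φ.obj (T ((i : ℤ) + 1))) :=
      cokernelIsoOfEq hf1 ≪≫ (PreservesCokernel.iso Ψ l).symm ≪≫ Ψ.mapIso
        (cokernelIsoOfEq (lift_eq_map Φ (μ₁.{u} i) (μ₂ i)) ≪≫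
          cokernelCompIsIso _ _ ≪≫ (PreservesCokernel.iso Φ _).symm ≪≫ Φ.mapIso eg)
    exact ⟨e0 ≪≫ e1 ≪≫ biprod.mapIso (e2 ≪≫ σ.app _) (σ.app _)⟩
  · haveI : IsIso (f ≫ biprod.snd) := by
      rw [hf2, fib_tS]
      exact isIso_smulMod _ (((ha.isUnit).map _).map _)
    obtain ⟨e1⟩ := nonempty_coker_biprod_snd (f := f)
    exact ⟨e0 ≪≫ e1 ≪≫ Ψ.mapBiprod _ _ ≪≫ biprod.mapIso (σ.app _) (σ.app _)⟩

end Groth.Agent.JumpP1
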